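import Mathlib.RingTheory.MvPolynomial.EulerIdentity
import Mathlib.Algebra.MvPolynomial.Funext
import Mathlib.LinearAlgebra.Matrix.ToLin
import Mathlib.Tactic

/-! The symmetric trilinear form of a cubic form. -/

namespace EckardtLib

open MvPolynomial

universe u

variable {K : Type u} [Field K] {n : ℕ}

theorem pderiv_comm' {σ : Type*} (i j : σ) (f : MvPolynomial σ K) :
    pderiv i (pderiv j f) = pderiv j (pderiv i f) := by
  classical
  induction f using MvPolynomial.induction_on with
  | C a => simp
  | add p q hp hq => simp only [map_add, hp, hq]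
  | mul_X p k hp =>
    simp only [pderiv_mul, pderiv_X, map_add, hp]
    by_cases hik : k = i <;> by_cases hjk : k = j <;> simp [Pi.single_apply, hik, hjk] <;>
      subst_vars <;> simp_all <;> ring

/-- A symmetric trilinear form representing a cubic form. -/
structure CubicTensor (f : MvPolynomial (Fin n) K) where
  T : (Fin n → K) →ₗ[K] (Fin n → K) →ₗ[K] (Fin n → K) →ₗ[K] K
  swap₁ : ∀ u v w, T u v w = T v u w
  swap₂ : ∀ u v w, T u v w = T u w v
  eval_eq : ∀ v, eval v f = T v v v
  grad_eq : ∀ v w, ∑ i, w i * eval v (pderiv i f) = 3 * T v v w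

variable [CharZero K]

theorem exists_cubicTensor {f : MvPolynomial (Fin n) K} (hf : f.IsHomogeneous 3) :
    Nonempty (CubicTensor f) := by
  classical
  let a : Fin n → Fin n → Fin n → K := fun i j k => (6 : K)⁻¹ * coeff 0 (pderiv k (pderiv j (pderiv i f)))
  have hs1 : ∀ i j k, a i j k = a j i k := fun i j k => by simp only [a, pderiv_comm' j i]
  have hs2 : ∀ i j k, a i j k = a i k j := fun i j k => by simp only [a, pderiv_comm' k j]
  let T : (Fin n → K) →ₗ[K] (Fin n → K) →ₗ[K] (Fin n → K) →ₗ[K] K :=
    ∑ i, ∑ j, ∑ k, a i j k • (LinearMap.proj i).smulRight ((LinearMap.proj j).smulRight (LinearMap.proj k))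
  have hT : ∀ u v w, T u v w = ∑ i, ∑ j, ∑ k, a i j k * (u i * (v j * w k)) := fun u v w => by
    simp [T, LinearMap.sum_apply]
  have h1 : ∀ i v, eval v (pderiv i f) = 3 * ∑ j, ∑ k, a j k i * (v j * v k) := by
    intro i v
    have e2 := congrArg (eval v) (IsHomogeneous.sum_X_mul_pderiv (hf.pderiv (i := i)))
    simp only [map_sum, map_mul, eval_X, map_nsmul, nsmul_eq_mul, Nat.add_one_sub_one] at e2
    have e3 : ∀ j, eval v (pderiv j (pderiv i f)) = ∑ k, v k * (6 * a j k i) := by
      intro j
      have h3 := (hf.pderiv (i := i)).pderiv (i := j)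
      have e := congrArg (eval v) (IsHomogeneous.sum_X_mul_pderiv h3)
      simp only [map_sum, map_mul, eval_X, map_nsmul, nsmul_eq_mul] at e
      norm_num at e
      rw [← e]
      refine Finset.sum_congr rfl fun k _ => ?_
      congr 1
      have hC : pderiv k (pderiv j (pderiv i f)) = C (coeff 0 (pderiv k (pderiv j (pderiv i f)))) :=
        totalDegree_eq_zero_iff_eq_C.mp (Nat.le_zero.mp (by simpa using (h3.pderiv (i := k)).totalDegree_le))
      rw [hC, eval_C, hs2 j k i, hs1 j i k]
      simp only [a]
      rw [← mul_assoc, mul_inv_cancel₀ (by norm_num : (6 : K) ≠ 0), one_mul]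
    simp only [e3] at e2
    norm_num at e2
    rw [Finset.mul_sum]
    have e4 : ∑ x, v x * ∑ k, v k * (6 * a x k i) = 2 * ∑ j, 3 * ∑ k, a j k i * (v j * v k) := by
      simp only [Finset.mul_sum]
      exact Finset.sum_congr rfl fun _ _ => Finset.sum_congr rfl fun _ _ => by ring
    rw [e4] at e2
    exact (mul_left_cancel₀ (two_ne_zero : (2 : K) ≠ 0) e2).symm
  have hgrad : ∀ v w, ∑ i, w i * eval v (pderiv i f) = 3 * T v v w := by
    intro v w
    simp only [h1, hT, Finset.mul_sum]
    rw [Finset.sum_comm]
    refine Finset.sum_congr rfl fun j _ => ?_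
    rw [Finset.sum_comm]
    exact Finset.sum_congr rfl fun k _ => Finset.sum_congr rfl fun i _ => by ring
  refine ⟨⟨T, ?_, ?_, fun v => ?_, hgrad⟩⟩
  · intro u v w
    rw [hT, hT, Finset.sum_comm]
    exact Finset.sum_congr rfl fun i _ => Finset.sum_congr rfl fun j _ => Finset.sum_congr rfl fun k _ => by
      rw [hs1]; ring
  · intro u v w
    rw [hT, hT]
    refine Finset.sum_congr rfl fun i _ => ?_
    rw [Finset.sum_comm]
    exact Finset.sum_congr rfl fun j _ => Finset.sum_congr rfl fun k _ => by rw [hs2]; ring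
  · have e := congrArg (eval v) hf.sum_X_mul_pderiv
    simp only [map_sum, map_mul, eval_X, map_nsmul, nsmul_eq_mul, hgrad] at e
    norm_num at e
    exact e.symm

theorem eval_aeval_matrix (A : Matrix (Fin n) (Fin n) K) (f : MvPolynomial (Fin n) K) (v : Fin n → K) :
    eval v (aeval (fun i => ∑ j, C (A i j) * X j) f) = eval (A.mulVec v) f := by
  induction f using MvPolynomial.induction_on with
  | C a => simp
  | add p q hp hq => rw [map_add, map_add, map_add, hp, hq]
  | mul_X p i hp =>
    rw [map_mul, map_mul, map_mul, hp, aeval_X]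
    simp [Matrix.mulVec, dotProduct]

theorem aeval_matrix_eq_iff (A : Matrix (Fin n) (Fin n) K) (f : MvPolynomial (Fin n) K) (c : K) :
    aeval (fun i => ∑ j, C (A i j) * X j) f = C c * f ↔ ∀ v, eval (A.mulVec v) f = c * eval v f := by
  constructor
  · intro h v
    rw [← eval_aeval_matrix, h, map_mul, eval_C]
  · intro h
    haveI : Infinite K := Infinite.of_injective (Nat.cast : ℕ → K) Nat.cast_injective
    exact MvPolynomial.funext fun v => by rw [eval_aeval_matrix, h, map_mul, eval_C]

end EckardtLib
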